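import Mathlib
import Cfsg.Agent.Lib.Helper16.LocalRing

/-!
# The projective indecomposable character of the trivial module (project PIM, helper41): carriers

Group ring elements are `MonoidAlgebra R G` (coefficients `x.coeff g`).

* `classTr x g = ∑ h, x.coeff (h⁻¹ * g⁻¹ * h)`: for an idempotent `e` of `ℂ[G]` this is the
  character of the left ideal `ℂ[G] e`.
* `sumOn S x`: the sum of the coefficients of `x` over the set `S`; `aug x = sumOn univ x`.
* `avg H c = c • ∑_{h ∈ H} h` (an idempotent when `c * |H| = 1`).
* `OO M = localSubring M` (helper16), `KK M` its residue field, `redHom`, `incHom`.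
-/

set_option autoImplicit false

namespace Cfsg.Agent.Lib.Helper41.PIM

open Cfsg Cfsg.Agent.Lib.Helper16

universe u

variable {G : Type u} [Group G]

/-- `Φ_x(g) = ∑_h x(h⁻¹ g⁻¹ h)` -/
noncomputable def classTr {R : Type*} [Semiring R] [Fintype G] (x : MonoidAlgebra R G) (g : G) : R :=
  ∑ h : G, x.coeff (h⁻¹ * g⁻¹ * h)

open Classical in
/-- the sum of the coefficients of `x` over the set `S` -/
noncomputable def sumOn {R : Type*} [Semiring R] [Fintype G] (S : Set G) (x : MonoidAlgebra R G) : R :=
  ∑ g : G, if g ∈ S then x.coeff g else 0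

/-- the augmentation -/
noncomputable def aug {R : Type*} [Semiring R] [Fintype G] (x : MonoidAlgebra R G) : R :=
  ∑ g : G, x.coeff g

/-- `c • ∑_{h ∈ H} h` -/
noncomputable def avg {R : Type*} [Semiring R] [Fintype G] (H : Subgroup G) (c : R) : MonoidAlgebra R G :=
  open Classical in ∑ g : G, if g ∈ H then MonoidAlgebra.single g c else 0

/-- the `p`-singular elements -/
def singSet (p : ℕ) (G : Type u) [Group G] : Set G := {g | p ∣ orderOf g}

/-- the `p`-regular elements -/
def regSet (p : ℕ) (G : Type u) [Group G] : Set G := {g | ¬ p ∣ orderOf g}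

section local_ring

variable (M : Ideal AlgInt) [M.IsPrime]

/-- the local ring `O` -/
abbrev OO : Subring ℂ := localSubring M

/-- the residue field of `O` -/
abbrev KK : Type := (localSubring M) ⧸ localIdeal M

noncomputable instance : Field (KK M) := Ideal.Quotient.field (localIdeal M)

/-- reduction of group ring elements modulo the maximal ideal -/
noncomputable def redHom (G : Type u) [Group G] : MonoidAlgebra (OO M) G →+* MonoidAlgebra (KK M) G :=
  MonoidAlgebra.mapRingHom G (Ideal.Quotient.mk (localIdeal M))

/-- inclusion into the complex group algebra -/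
noncomputable def incHom (G : Type u) [Group G] : MonoidAlgebra (OO M) G →+* MonoidAlgebra ℂ G :=
  MonoidAlgebra.mapRingHom G (localSubring M).subtype

end local_ring

end Cfsg.Agent.Lib.Helper41.PIM
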