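import Mathlib
import Cfsg.Agent.Lib.Helper41.PIM.Defs
import Cfsg.Agent.Lib.Helper11.PIMLift
import Cfsg.Agent.Lib.Helper47.PIMBasic
import Cfsg.Agent.Lib.Helper47.PIMAvg
import Cfsg.Agent.Lib.Helper25.PIMNak
import Cfsg.Agent.Lib.Helper25.PIMIntCl
import Cfsg.Agent.Lib.Helper25.PIMKPrim
import Cfsg.Agent.Lib.Helper51.PIMChar
import Cfsg.Agent.Lib.Helper75.PIMSing

/-!
# Project PIM (helper41): assembly

`exists_pim`: the character `Φ₁` of the projective cover of the trivial module, with the
properties used in Brauer's proof of S4427.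
-/

set_option autoImplicit false

namespace Cfsg.Agent.Lib.Helper41.PIM

open Cfsg Cfsg.Agent.Lib.Helper16
open scoped ComplexConjugate

universe u

variable {G : Type u} [Group G] [Fintype G]

section
variable (M : Ideal AlgInt) [M.IsPrime]

theorem redHom_surjective : Function.Surjective (redHom M G) := by
  classical
  intro y
  choose c hc using fun g : G => Ideal.Quotient.mk_surjective (I := localIdeal M) (y.coeff g)
  refine ⟨∑ g : G, MonoidAlgebra.single g (c g), ?_⟩
  apply MonoidAlgebra.coeff_injective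
  ext g
  rw [redHom, MonoidAlgebra.coeff_mapRingHom, MonoidAlgebra.coeff_sum]
  simp only [Finsupp.coe_finsetSum, Finset.sum_apply, MonoidAlgebra.coeff_single]
  rw [Finset.sum_eq_single g]
  · simp [hc]
  · intro h _ hne
    simp [hne]
  · intro h; exact absurd (Finset.mem_univ g) h

theorem charP_KK {p : ℕ} (hM : IsPModular p M) : CharP (KK M) p := by
  have hp : p.Prime := isPModular_prime hM
  have h0 : ((p : ℕ) : KK M) = 0 := by
    have hmem : ((p : ℕ) : OO M) ∈ localIdeal M := by
      rw [mem_localIdeal]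
      have := memLocalIdeal_p hM
      simpa using this
    have : (Ideal.Quotient.mk (localIdeal M)) ((p : ℕ) : OO M) = 0 :=
      Ideal.Quotient.eq_zero_iff_mem.mpr hmem
    simpa using this
  have hdvd : ringChar (KK M) ∣ p := ringChar.dvd h0
  have hne1 : ringChar (KK M) ≠ 1 := CharP.ringChar_ne_one
  have heq : ringChar (KK M) = p := by
    rcases (Nat.dvd_prime hp).mp hdvd with h | h
    · exact absurd h hne1
    · exact h
  rw [← heq]
  exact ringChar.charP (KK M)

end

section ring_lemmas

theorem corner_inv {R : Type*} [Ring R] (ε c z : R) (hε : ε * ε = ε) (hc : ε * c * ε = c)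
    (hz : ε * z * ε = z) (hcz : c * z = ε) : (c + (1 - ε)) * (z + (1 - ε)) = 1 := by
  have hcε : c * ε = c := by
    calc c * ε = ε * c * ε * ε := by rw [hc]
      _ = ε * c * (ε * ε) := by rw [mul_assoc (ε * c)]
      _ = c := by rw [hε, hc]
  have hεz : ε * z = z := by
    calc ε * z = ε * (ε * z * ε) := by rw [hz]
      _ = (ε * ε) * z * ε := by simp only [mul_assoc]
      _ = z := by rw [hε, hz]
  have e1 : c * (1 - ε) = 0 := by rw [mul_sub, mul_one, hcε, sub_self]
  have e2 : (1 - ε) * z = 0 := by rw [sub_mul, one_mul, hεz, sub_self]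
  have e3 : (1 - ε) * (1 - ε) = 1 - ε := by
    rw [mul_sub, mul_one, sub_mul, one_mul, hε, sub_self, sub_zero]
  rw [add_mul, mul_add, mul_add, hcz, e1, e2, e3, add_zero, zero_add, add_sub_cancel]

theorem corner_core {R : Type*} [Ring R] (e eH T' : R) (he : e * e = e) (hH : eH * eH = eH)
    (hT' : (e * eH * e + (1 - e)) * T' = 1) :
    ∃ U V : R, U * V = e ∧ (eH - V * U) * (eH - V * U) = eH - V * U := by
  obtain ⟨W, hW⟩ : ∃ W, W = e * T' * e := ⟨_, rfl⟩
  have hWe : W * e = W := by
    rw [hW, mul_assoc, he]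
  have heT : e * (e * eH * e + (1 - e)) = e * eH * e := by
    rw [mul_add, mul_sub, mul_one, he, sub_self, add_zero, ← mul_assoc, ← mul_assoc, he]
  have hkey : e * eH * e * W = e := by
    calc e * eH * e * W = (e * eH * (e * e)) * T' * e := by
          rw [hW]; simp only [mul_assoc]
      _ = (e * eH * e) * T' * e := by rw [he]
      _ = e * (e * eH * e + (1 - e)) * T' * e := by rw [heT]
      _ = e * ((e * eH * e + (1 - e)) * T') * e := by simp only [mul_assoc]
      _ = e := by rw [hT', mul_one, he]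
  obtain ⟨U, hU⟩ : ∃ U, U = e * eH := ⟨_, rfl⟩
  obtain ⟨V, hV⟩ : ∃ V, V = eH * e * W := ⟨_, rfl⟩
  have hUV : U * V = e := by
    calc U * V = e * (eH * eH) * e * W := by
          rw [hU, hV]; simp only [mul_assoc]
      _ = e := by rw [hH, hkey]
  have hVe : V * e = V := by
    rw [hV, mul_assoc, hWe]
  have hHV : eH * V = V := by
    calc eH * V = (eH * eH) * e * W := by rw [hV]; simp only [mul_assoc]
      _ = V := by rw [hH, hV]
  have hUH : U * eH = U := by
    rw [hU, mul_assoc, hH]
  refine ⟨U, V, hUV, ?_⟩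
  have f2 : (V * U) * (V * U) = V * U := by
    calc (V * U) * (V * U) = V * (U * V) * U := by simp only [mul_assoc]
      _ = V * U := by rw [hUV, hVe]
  have f3 : eH * (V * U) = V * U := by rw [← mul_assoc, hHV]
  have f4 : (V * U) * eH = V * U := by rw [mul_assoc, hUH]
  rw [sub_mul, mul_sub, mul_sub, hH, f2, f3, f4, sub_self, sub_zero]


end ring_lemmas

section main

open Cfsg.Agent.Lib.Helper47.PIM Cfsg.Agent.Lib.Helper25.PIM Cfsg.Agent.Lib.Helper51.PIM Cfsg.Agent.Lib.Helper75.PIM
open Cfsg.Agent.Lib.Helper11.PIM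

variable (M : Ideal AlgInt) [M.IsPrime]

/-- an idempotent of the domain `O` with residue `1` is `1` -/
theorem eq_one_of_idem_of_red {x : OO M} (hx : x * x = x)
    (hr : Ideal.Quotient.mk (localIdeal M) x = 1) : x = 1 := by
  have h : x * (x - 1) = 0 := by rw [mul_sub, hx, mul_one, sub_self]
  rcases mul_eq_zero.mp h with h0 | h1
  · exfalso
    rw [h0, map_zero] at hr
    exact zero_ne_one hr
  · exact sub_eq_zero.mp h1

/-- the algebraic core for one `p'`-subgroup: an idempotent `f` below `e_H` with the same class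
trace as `e` -/
theorem exists_sub_idem (e eH : MonoidAlgebra (OO M) G) (he : e * e = e) (hH : eH * eH = eH)
    (haugH : aug (redHom M G eH) = 1) (haug : aug (redHom M G e) = 1)
    (hloc : ∀ c : MonoidAlgebra (KK M) G, redHom M G e * c * redHom M G e = c → aug c ≠ 0 →
      ∃ z : MonoidAlgebra (KK M) G, redHom M G e * z * redHom M G e = z ∧ c * z = redHom M G e) :
    ∃ f : MonoidAlgebra (OO M) G, (eH - f) * (eH - f) = eH - f ∧
      ∀ g : G, classTr (incHom M G f) g = classTr (incHom M G e) g := by
  obtain ⟨ε, hε⟩ : ∃ ε, ε = redHom M G e := ⟨_, rfl⟩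
  rw [← hε] at haug hloc
  have hεε : ε * ε = ε := by rw [hε, ← map_mul, he]
  obtain ⟨c, hc⟩ : ∃ c, c = ε * redHom M G eH * ε := ⟨_, rfl⟩
  have hc1 : ε * c * ε = c := by
    calc ε * c * ε = (ε * ε) * redHom M G eH * (ε * ε) := by rw [hc]; simp only [mul_assoc]
      _ = c := by rw [hεε, hc]
  have hc2 : aug c ≠ 0 := by
    rw [hc, aug_mul, aug_mul, haug, haugH]; simp
  obtain ⟨z, hz1, hz2⟩ := hloc c hc1 hc2
  have hinv : redHom M G (e * eH * e + (1 - e)) * (z + (1 - ε)) = 1 := by
    have : redHom M G (e * eH * e + (1 - e)) = c + (1 - ε) := by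
      rw [hc, hε]; simp only [map_add, map_mul, map_sub, map_one]
    rw [this]
    exact corner_inv ε c z hεε hc1 hz1 hz2
  have hjac : localIdeal M ≤ Ideal.jacobson ⊥ := by
    rw [IsLocalRing.jacobson_eq_maximalIdeal ⊥ bot_ne_top, maximalIdeal_localSubring]
  obtain ⟨T', hT'⟩ := exists_right_inv_of_red (localIdeal M) hjac _ (z + (1 - ε)) hinv
  obtain ⟨U, V, hUV, hf⟩ := corner_core e eH T' he hH hT'
  refine ⟨V * U, hf, ?_⟩
  intro g
  rw [map_mul, classTr_mul_comm, ← map_mul, hUV]

/-- **The projective indecomposable character of the trivial module.** -/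
theorem exists_pim {p : ℕ} [Fact p.Prime] (hM : IsPModular p M) :
    ∃ Φ : G → ℂ, IsCharacter G Φ ∧ classInner Φ (fun _ : G => (1 : ℂ)) = 1 ∧
      (∃ t : ℂ, MemLocalRing M t ∧ MemLocalIdeal M (t - 1) ∧
        ∀ c : ℂ, (starRingEnd ℂ) c = c →
          classInner Φ (fun g : G => if p ∣ orderOf g then (0 : ℂ) else c) = c * t) ∧
      ∀ H : Subgroup G, ¬ p ∣ Nat.card H →
        IsCharacter G (indFun H (fun _ : H => (1 : ℂ)) - Φ) := by
  classical
  have : CharP (KK M) p := charP_KK M hM
  obtain ⟨φ, hφ⟩ := exists_augAlgHom (G := G) (k := KK M)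
  obtain ⟨ε, hεε, hε1, hloc⟩ := exists_local_idem φ
  rw [hφ] at hε1
  obtain ⟨b, hb⟩ := redHom_surjective M ε
  obtain ⟨e, he, hred⟩ := exists_idem_lift M
    (fun z hz => mem_localSubring_of_isIntegral M hz) b (by rw [hb]; exact hεε)
  rw [hb] at hred
  have hince : incHom M G e * incHom M G e = incHom M G e := by rw [← map_mul, he]
  -- the augmentation of `e` is `1`
  have hauge : aug e = 1 := by
    apply eq_one_of_idem_of_red M
    · rw [← aug_mul, he]
    · have := aug_map (Ideal.Quotient.mk (localIdeal M)) e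
      rw [← this]
      show aug (redHom M G e) = 1
      rw [hred, hε1]
  refine ⟨classTr (incHom M G e), isCharacter_classTr _ hince, ?_, ?_, ?_⟩
  · rw [classInner_classTr_one]
    show aug (MonoidAlgebra.mapRingHom G (localSubring M).subtype e) = 1
    rw [aug_map, hauge]; simp
  · refine ⟨(sumOn (regSet p G) e : OO M), (sumOn (regSet p G) e).2, ?_, ?_⟩
    · have h1 : Ideal.Quotient.mk (localIdeal M) (sumOn (regSet p G) e) = 1 := by
        rw [← sumOn_map]
        show sumOn (regSet p G) (redHom M G e) = 1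
        rw [hred]
        have h2 := aug_eq_reg_add_sing p ε
        rw [sumOn_sing_idem p ε hεε, add_zero, hε1] at h2
        exact h2.symm
      have h3 : sumOn (regSet p G) e - 1 ∈ localIdeal M := by
        rw [← Ideal.Quotient.eq_zero_iff_mem, map_sub, h1, map_one, sub_self]
      have := mem_localIdeal.mp h3
      simpa using this
    · intro c hc
      rw [classInner_classTr_theta p _ c hc]
      congr 1
      show sumOn (regSet p G) (MonoidAlgebra.mapRingHom G (localSubring M).subtype e) = _
      rw [sumOn_map]; rfl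
  · intro H hH
    -- the idempotent `e_H`
    have hcO : MemLocalRing M ((Nat.card H : ℂ)⁻¹) := memLocalRing_inv_natCast hM hH
    obtain ⟨cO, hcO'⟩ : ∃ cO : OO M, (cO : ℂ) = (Nat.card H : ℂ)⁻¹ := ⟨⟨_, hcO⟩, rfl⟩
    have hcard0 : (Nat.card H : ℂ) ≠ 0 := by
      have : Nat.card H ≠ 0 := Nat.card_pos.ne'
      exact_mod_cast this
    have hcO1 : cO * (Nat.card H : OO M) = 1 := by
      apply Subtype.ext
      push_cast
      rw [hcO']
      exact inv_mul_cancel₀ hcard0
    have heH : avg H cO * avg H cO = avg H cO := avg_mul_self H cO hcO1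
    have haugH : aug (redHom M G (avg H cO)) = 1 := by
      show aug (MonoidAlgebra.mapRingHom G (Ideal.Quotient.mk (localIdeal M)) (avg H cO)) = 1
      rw [aug_map, aug_avg H cO hcO1, map_one]
    obtain ⟨f, hf, hfe⟩ := exists_sub_idem M e (avg H cO) he heH haugH (by rw [hred, hε1])
      (by
        intro c hc1 hc2
        rw [hred] at hc1 ⊢
        exact hloc c hc1 (by rw [hφ]; exact hc2))
    have hinc : incHom M G (avg H cO) = avg H ((Nat.card H : ℂ)⁻¹) := by
      show MonoidAlgebra.mapRingHom G (localSubring M).subtype (avg H cO) = _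
      rw [avg_map]
      congr 1
    have hchar := isCharacter_classTr (incHom M G (avg H cO - f))
      (by rw [← map_mul, hf])
    have heq : classTr (incHom M G (avg H cO - f)) =
        indFun H (fun _ : H => (1 : ℂ)) - classTr (incHom M G e) := by
      funext g
      rw [map_sub, classTr_sub, hfe g, hinc, classTr_avg]
      rfl
    rw [← heq]
    exact hchar

end main

end Cfsg.Agent.Lib.Helper41.PIM
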