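import Mathlib
import Cfsg.Agent.Lib.Helper41.PIM.Asm
import Cfsg.Agent.Lib.Helper74.PRegGen
import Cfsg.Agent.Lib.Helper78.CharMore
import Cfsg.Agent.Lib.Helper77.Deflation

/-!
# Project PIM (helper41): Brauer's theorem on groups of order `p^a q^b r^c` with few
`p`-regular elements (S4427)
-/

set_option autoImplicit false

namespace Cfsg.Agent.Lib.Helper41.PIM

open Cfsg Cfsg.Agent.Lib.Helper16
open scoped ComplexConjugate

universe u

/-- Every rational prime lies in a maximal ideal of the algebraic integers. -/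
theorem pim_exists_isPModular (q : ℕ) (hq : q.Prime) :
    ∃ M : Ideal AlgInt, IsPModular q M := by
  have hne : Ideal.span {(q : AlgInt)} ≠ ⊤ := by
    intro htop
    have h1 : (1 : AlgInt) ∈ Ideal.span {(q : AlgInt)} := by rw [htop]; trivial
    obtain ⟨a, ha⟩ := Ideal.mem_span_singleton'.mp h1
    have ha' : (a : ℂ) * (q : ℂ) = 1 := by
      have := congrArg (fun x : AlgInt => (x : ℂ)) ha
      simpa using this
    have hq0 : (q : ℂ) ≠ 0 := by exact_mod_cast hq.ne_zero
    have hint : IsIntegral ℤ (((1 : ℕ) : ℂ) / (q : ℂ)) := by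
      have : ((1 : ℕ) : ℂ) / (q : ℂ) = (a : ℂ) := by
        field_simp
        rw [mul_comm]; simpa using ha'.symm
      rw [this]
      exact a.2
    have := Cfsg.Agent.Lib.Helper79.dvd_of_isIntegral_div hq.ne_zero hint
    exact hq.one_lt.ne' (Nat.dvd_one.mp this)
  obtain ⟨M, hM, hle⟩ := Ideal.exists_le_maximal _ hne
  exact ⟨M, hq, hM, hle (Ideal.subset_span (Set.mem_singleton _))⟩

section inner

variable {G : Type u} [Group G] [Fintype G]

theorem ci_add_left (f g h : G → ℂ) :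
    classInner (f + g) h = classInner f h + classInner g h := by
  simp only [classInner, Pi.add_apply, add_mul, Finset.sum_add_distrib, mul_add]

theorem ci_sub_left (f g h : G → ℂ) :
    classInner (f - g) h = classInner f h - classInner g h := by
  simp only [classInner, Pi.sub_apply, sub_mul, Finset.sum_sub_distrib, mul_sub]

theorem ci_add_right (f g h : G → ℂ) :
    classInner f (g + h) = classInner f g + classInner f h := by
  simp only [classInner, Pi.add_apply, map_add, mul_add, Finset.sum_add_distrib]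

theorem ci_sub_right (f g h : G → ℂ) :
    classInner f (g - h) = classInner f g - classInner f h := by
  simp only [classInner, Pi.sub_apply, map_sub, mul_sub, Finset.sum_sub_distrib]

theorem ci_conj_symm (f g : G → ℂ) : conj (classInner f g) = classInner g f := by
  simp only [classInner, map_mul, map_sum, map_inv₀, Complex.conj_natCast, Complex.conj_conj]
  congr 1
  apply Finset.sum_congr rfl
  intro x _
  ring

/-- positivity of `[f, f]` -/
theorem ci_self_int {f : G → ℂ} {k : ℤ} (h : classInner f f = k) : 0 ≤ k ∧ (k = 0 → f = 0) := by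
  have hN : (0 : ℝ) < (Nat.card G : ℝ) := by exact_mod_cast Nat.card_pos
  have hreal : classInner f f =
      (((Nat.card G : ℝ)⁻¹ * ∑ g : G, Complex.normSq (f g) : ℝ) : ℂ) := by
    simp only [classInner]
    push_cast
    congr 1
    apply Finset.sum_congr rfl
    intro g _
    rw [Complex.mul_conj]
  rw [hreal] at h
  have h' : (Nat.card G : ℝ)⁻¹ * ∑ g : G, Complex.normSq (f g) = (k : ℝ) := by
    have := congrArg Complex.re h
    simpa using this
  have hsum : 0 ≤ ∑ g : G, Complex.normSq (f g) :=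
    Finset.sum_nonneg (fun g _ => Complex.normSq_nonneg _)
  constructor
  · have : (0 : ℝ) ≤ (k : ℝ) := by
      rw [← h']
      exact mul_nonneg (inv_nonneg.mpr hN.le) hsum
    exact_mod_cast this
  · intro hk
    rw [hk] at h'
    have h0 : ∑ g : G, Complex.normSq (f g) = 0 := by
      have h2 : (Nat.card G : ℝ)⁻¹ * ∑ g : G, Complex.normSq (f g) = 0 := by
        rw [h']; simp
      exact (mul_eq_zero.mp h2).resolve_left (inv_ne_zero hN.ne')
    funext g
    have := (Finset.sum_eq_zero_iff_of_nonneg (fun g _ => Complex.normSq_nonneg (f g))).mp h0 g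
      (Finset.mem_univ g)
    exact Complex.normSq_eq_zero.mp this

/-- the inner product of two characters is a natural number -/
theorem ci_char_char {χ ψ : G → ℂ} (hχ : IsCharacter G χ) (hψ : IsCharacter G ψ) :
    ∃ n : ℕ, classInner χ ψ = n := by
  classical
  have hcl : IsClassFunction G χ := Cfsg.Agent.Lib.Helper78.IsCharacter.isClassFunction hχ
  rw [Cfsg.Agent.Lib.Helper78.classInner_eq_sum_mul_conj ψ hcl]
  choose a ha using fun φ => Cfsg.Agent.Lib.Helper78.IsCharacter.exists_nat_classInner hχ φ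
  choose b hb using fun φ => Cfsg.Agent.Lib.Helper78.IsCharacter.exists_nat_classInner hψ φ
  refine ⟨∑ φ : IrrCharacter G, a φ * b φ, ?_⟩
  push_cast
  apply Finset.sum_congr rfl
  intro φ _
  rw [ha, hb, Complex.conj_natCast]

end inner

section local_int

variable {M : Ideal AlgInt} {p : ℕ}

/-- an integer of the form `p^a t` with `t` a local integer is divisible by `p^a` -/
theorem pow_dvd_of_local (hM : IsPModular p M) :
    ∀ (a : ℕ) (n : ℤ) (t : ℂ), MemLocalRing M t → (n : ℂ) = (p : ℂ) ^ a * t →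
      ((p : ℤ) ^ a) ∣ n := by
  have hMp : M.IsPrime := isPModular_isPrime hM
  have hp0 : (p : ℂ) ≠ 0 := by exact_mod_cast (isPModular_prime hM).ne_zero
  intro a
  induction a with
  | zero => intro n t _ _; simp
  | succ a ih =>
    intro n t ht hn
    have hO : MemLocalRing M ((p : ℂ) ^ a * t) :=
      memLocalRing_mul (memLocalRing_pow (memLocalRing_natCast hMp.ne_top p) a) ht
    have hmem : MemLocalIdeal M (n : ℂ) := by
      have : (p : ℂ) ^ (a + 1) * t = (p : ℂ) * ((p : ℂ) ^ a * t) := by ring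
      rw [hn, this]
      exact memLocalIdeal_mul_right (memLocalIdeal_p hM) hO
    obtain ⟨n₁, rfl⟩ := (memLocalIdeal_intCast_iff hM n).mp hmem
    have h1 : (n₁ : ℂ) = (p : ℂ) ^ a * t := by
      have : (p : ℂ) * (n₁ : ℂ) = (p : ℂ) * ((p : ℂ) ^ a * t) := by
        rw [pow_succ] at hn
        push_cast at hn
        rw [hn]; ring
      exact mul_left_cancel₀ hp0 this
    obtain ⟨k, rfl⟩ := ih n₁ t ht h1
    exact ⟨k, by ring⟩

end local_int

section theta

variable {G : Type u} [Group G] [Fintype G]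

theorem sum_reg_const (p : ℕ) (c : ℂ) :
    ∑ g : G, (if p ∣ orderOf g then (0 : ℂ) else c) =
      (Nat.card {g : G // ¬ p ∣ orderOf g} : ℂ) * c := by
  classical
  rw [Finset.sum_ite, Finset.sum_const_zero, zero_add, Finset.sum_const, nsmul_eq_mul]
  congr 2
  rw [Nat.card_eq_fintype_card, Fintype.card_subtype]

theorem ci_theta_theta (p : ℕ) (c d : ℂ) :
    classInner (fun g : G => if p ∣ orderOf g then (0 : ℂ) else c)
      (fun g : G => if p ∣ orderOf g then (0 : ℂ) else d) =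
      (Nat.card G : ℂ)⁻¹ * ((Nat.card {g : G // ¬ p ∣ orderOf g} : ℂ) * (c * conj d)) := by
  classical
  simp only [classInner]
  rw [← sum_reg_const p (c * conj d)]
  congr 1
  apply Finset.sum_congr rfl
  intro g _
  by_cases h : p ∣ orderOf g <;> simp [h]

theorem ci_theta_one (p : ℕ) (c : ℂ) :
    classInner (fun g : G => if p ∣ orderOf g then (0 : ℂ) else c) (fun _ : G => (1 : ℂ)) =
      (Nat.card G : ℂ)⁻¹ * ((Nat.card {g : G // ¬ p ∣ orderOf g} : ℂ) * c) := by
  classical
  simp only [classInner]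
  rw [← sum_reg_const p c]
  congr 1
  apply Finset.sum_congr rfl
  intro g _
  simp

theorem indFun_one_eq_zero (H : Subgroup G) (g : G) (h : ∀ x : G, x⁻¹ * g * x ∉ H) :
    indFun H (fun _ : H => (1 : ℂ)) g = 0 := by
  simp only [indFun]
  rw [Finset.sum_eq_zero, mul_zero]
  intro x _
  simp only [extendByZero]
  rw [Function.extend_apply']
  · rfl
  · rintro ⟨a, ha⟩
    exact h x (ha ▸ a.2)

theorem indFun_one_one (H : Subgroup G) :
    indFun H (fun _ : H => (1 : ℂ)) 1 = (Nat.card H : ℂ)⁻¹ * (Nat.card G : ℂ) := by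
  simp only [indFun]
  congr 1
  have : ∀ x : G, extendByZero H (fun _ : H => (1 : ℂ)) (x⁻¹ * 1 * x) = 1 := by
    intro x
    have h1 : x⁻¹ * 1 * x = ((1 : H) : G) := by simp
    rw [h1]
    simp only [extendByZero]
    exact Subtype.val_injective.extend_apply _ _ _
  rw [Finset.sum_congr rfl (fun x _ => this x)]
  simp only [Finset.sum_const, Finset.card_univ, nsmul_eq_mul, mul_one]
  rw [Nat.card_eq_fintype_card]

/-- `[(1_Q)^G, (1_R)^G] = |G| / (|Q||R|)` for subgroups of coprime orders -/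
theorem ci_ind_ind (Q R : Subgroup G) (hcop : Nat.Coprime (Nat.card Q) (Nat.card R)) :
    classInner (indFun Q (fun _ : Q => (1 : ℂ))) (indFun R (fun _ : R => (1 : ℂ))) =
      (Nat.card G : ℂ)⁻¹ * ((Nat.card Q : ℂ)⁻¹ * (Nat.card G : ℂ) *
        ((Nat.card R : ℂ)⁻¹ * (Nat.card G : ℂ))) := by
  classical
  simp only [classInner]
  congr 1
  rw [Finset.sum_eq_single (1 : G)]
  · rw [indFun_one_one, indFun_one_one]
    simp
  · intro g _ hg
    by_cases hQ : ∀ x : G, x⁻¹ * g * x ∉ Q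
    · rw [indFun_one_eq_zero Q g hQ, zero_mul]
    by_cases hR : ∀ x : G, x⁻¹ * g * x ∉ R
    · rw [indFun_one_eq_zero R g hR, map_zero, mul_zero]
    exfalso
    push Not at hQ hR
    obtain ⟨x, hx⟩ := hQ
    obtain ⟨y, hy⟩ := hR
    have key : ∀ (K : Subgroup G) (z : G), z⁻¹ * g * z ∈ K → orderOf g ∣ Nat.card K := by
      intro K z hz
      apply orderOf_dvd_of_pow_eq_one
      have h1 : (⟨z⁻¹ * g * z, hz⟩ : K) ^ Nat.card K = 1 := pow_card_eq_one'
      have h2 : (z⁻¹ * g * z) ^ Nat.card K = 1 := by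
        have h := congrArg (fun k : K => (k : G)) h1
        simp only [Subgroup.coe_pow, Subgroup.coe_one] at h
        exact h
      have h3 : (z⁻¹ * g * z) ^ Nat.card K = z⁻¹ * g ^ Nat.card K * z := by
        have := conj_pow (a := z⁻¹) (b := g) (i := Nat.card K)
        simpa using this
      rw [h3] at h2
      have : g ^ Nat.card K = z * 1 * z⁻¹ := by rw [← h2]; group
      simpa using this
    have h1 : orderOf g ∣ 1 := by
      have := Nat.dvd_gcd (key Q x hx) (key R y hy)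
      rwa [hcop.gcd_eq_one] at this
    exact hg (orderOf_eq_one_iff.mp (Nat.dvd_one.mp h1))
  · intro h; exact absurd (Finset.mem_univ _) h

end theta

section final

/-- **Brauer.** A group of order `p^a q^b r^c` with exactly `q^b r^c` elements of order prime to
`p` has a normal `p`-complement. -/
theorem brauer_pqr {G : Type u} [Group G] [Finite G] (p q r a b c : ℕ) (hp : p.Prime)
    (hq : q.Prime) (hr : r.Prime) (hpq : p ≠ q) (hpr : p ≠ r) (hqr : q ≠ r)
    (hG : Nat.card G = p ^ a * q ^ b * r ^ c)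
    (hcount : Nat.card {g : G // ¬ p ∣ orderOf g} = q ^ b * r ^ c) :
    ∃ N : Subgroup G, N.Normal ∧ Nat.card N = q ^ b * r ^ c := by
  classical
  have : Fintype G := Fintype.ofFinite G
  have : Fact p.Prime := ⟨hp⟩
  have : Fact q.Prime := ⟨hq⟩
  have : Fact r.Prime := ⟨hr⟩
  obtain ⟨M, hM⟩ := pim_exists_isPModular p hp
  have : M.IsPrime := isPModular_isPrime hM
  obtain ⟨Φ, hΦ, hΦ1, ⟨t, ht, ht1, hΦθ⟩, hΦH⟩ := exists_pim (G := G) M hM
  have hp0 : (p : ℂ) ≠ 0 := by exact_mod_cast hp.ne_zero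
  have hq0 : (q : ℂ) ≠ 0 := by exact_mod_cast hq.ne_zero
  have hr0 : (r : ℂ) ≠ 0 := by exact_mod_cast hr.ne_zero
  -- Sylow subgroups
  obtain ⟨Q, hQ⟩ := Sylow.exists_subgroup_card_pow_prime q (n := b) (G := G)
    (by rw [hG]; exact ⟨p ^ a * r ^ c, by ring⟩)
  obtain ⟨R, hR⟩ := Sylow.exists_subgroup_card_pow_prime r (n := c) (G := G)
    (by rw [hG]; exact ⟨p ^ a * q ^ b, by ring⟩)
  have hpQ : ¬ p ∣ Nat.card Q := by
    rw [hQ]; intro h
    exact hpq ((Nat.prime_dvd_prime_iff_eq hp hq).mp (hp.dvd_of_dvd_pow h))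
  have hpR : ¬ p ∣ Nat.card R := by
    rw [hR]; intro h
    exact hpr ((Nat.prime_dvd_prime_iff_eq hp hr).mp (hp.dvd_of_dvd_pow h))
  have hα := hΦH Q hpQ
  have hβ := hΦH R hpR
  obtain ⟨α, hαdef⟩ : ∃ α, α = indFun Q (fun _ : Q => (1 : ℂ)) := ⟨_, rfl⟩
  obtain ⟨β, hβdef⟩ : ∃ β, β = indFun R (fun _ : R => (1 : ℂ)) := ⟨_, rfl⟩
  rw [← hαdef] at hα
  rw [← hβdef] at hβ
  have hαβ : classInner α β = ((p ^ a : ℕ) : ℂ) := by
    rw [hαdef, hβdef, ci_ind_ind Q R (by
      rw [hQ, hR]; exact Nat.Coprime.pow _ _ ((Nat.coprime_primes hq hr).mpr hqr)), hQ, hR, hG]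
    push_cast
    field_simp
  -- `[Φ, Φ] ≤ p^a`
  obtain ⟨B, hB⟩ := ci_char_char hΦ hΦ
  obtain ⟨n1, hn1⟩ := ci_char_char hΦ hβ
  obtain ⟨n2, hn2⟩ := ci_char_char hα hΦ
  obtain ⟨n3, hn3⟩ := ci_char_char hα hβ
  have hBle : B ≤ p ^ a := by
    have e1 : classInner (Φ + (α - Φ)) (Φ + (β - Φ)) = classInner α β := by
      rw [add_sub_cancel, add_sub_cancel]
    rw [ci_add_left, ci_add_right, ci_add_right, hB, hn1, hn2, hn3, hαβ] at e1
    have e2 : B + n1 + (n2 + n3) = p ^ a := by exact_mod_cast e1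
    omega
  -- the generalized character `θ`
  obtain ⟨θ, hθdef⟩ : ∃ θ : G → ℂ, θ = fun g : G =>
      if p ∣ orderOf g then (0 : ℂ) else ((p ^ a : ℕ) : ℂ) := ⟨_, rfl⟩
  have hθgen : IsGeneralizedCharacter G θ := by
    have h1 : IsCharacter G (fun _ : G => (1 : ℂ)) := by
      obtain ⟨n, ρ, _, h⟩ := Cfsg.Agent.Lib.Helper78.isIrrCharacter_one (G := G)
      exact ⟨n, ρ, h⟩
    have h2 := Cfsg.Agent.Lib.Helper74.isGeneralizedCharacter_pReg hp h1
    have hndvd : ¬ p ∣ q ^ b * r ^ c := by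
      intro h
      rcases (Nat.Prime.dvd_mul hp).mp h with h | h
      · exact hpq ((Nat.prime_dvd_prime_iff_eq hp hq).mp (hp.dvd_of_dvd_pow h))
      · exact hpr ((Nat.prime_dvd_prime_iff_eq hp hr).mp (hp.dvd_of_dvd_pow h))
    have hfac : (Nat.card G).factorization p = a := by
      rw [hG, mul_assoc, Nat.factorization_mul (pow_ne_zero _ hp.ne_zero)
        (mul_ne_zero (pow_ne_zero _ hq.ne_zero) (pow_ne_zero _ hr.ne_zero)), Finsupp.add_apply,
        hp.factorization_pow, Finsupp.single_eq_same,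
        Nat.factorization_eq_zero_of_not_dvd hndvd, add_zero]
    rw [hfac] at h2
    simp only [mul_one] at h2
    rw [hθdef]
    exact h2
  obtain ⟨χ₁, χ₂, hχ₁, hχ₂, hθeq⟩ := hθgen
  obtain ⟨m1, hm1⟩ := ci_char_char hΦ hχ₁
  obtain ⟨m2, hm2⟩ := ci_char_char hΦ hχ₂
  obtain ⟨n, hndef⟩ : ∃ n : ℤ, n = (m1 : ℤ) - (m2 : ℤ) := ⟨_, rfl⟩
  have hn : classInner Φ θ = (n : ℂ) := by
    rw [hθeq, ci_sub_right, hm1, hm2, hndef]; push_cast; ring
  have hn' : classInner θ Φ = (n : ℂ) := by
    rw [← ci_conj_symm Φ θ, hn, map_intCast]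
  have hΦθ' : classInner Φ θ = ((p ^ a : ℕ) : ℂ) * t := by
    rw [hθdef]; exact hΦθ _ (Complex.conj_natCast _)
  have hnt : (n : ℂ) = (p : ℂ) ^ a * t := by
    rw [← hn, hΦθ']; push_cast; rfl
  obtain ⟨n', hn'def⟩ := pow_dvd_of_local hM a n t ht hnt
  have hpa0 : ((p : ℂ) ^ a) ≠ 0 := pow_ne_zero _ hp0
  have htn' : t = (n' : ℂ) := by
    have : (p : ℂ) ^ a * t = (p : ℂ) ^ a * (n' : ℂ) := by
      rw [← hnt, hn'def]; push_cast; ring
    exact mul_left_cancel₀ hpa0 this
  have hdiv : (p : ℤ) ∣ n' - 1 := by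
    apply (memLocalIdeal_intCast_iff hM (n' - 1)).mp
    push_cast
    rw [← htn']
    exact ht1
  -- norms
  have hcardG : (Nat.card G : ℂ) = (p : ℂ) ^ a * (q : ℂ) ^ b * (r : ℂ) ^ c := by
    rw [hG]; push_cast; ring
  have hθθ : classInner θ θ = ((p ^ a : ℕ) : ℂ) := by
    rw [hθdef, ci_theta_theta, hcount, hcardG, Complex.conj_natCast]
    push_cast
    field_simp
  have hθ1 : classInner θ (fun _ : G => (1 : ℂ)) = 1 := by
    rw [hθdef, ci_theta_one, hcount, hcardG]
    push_cast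
    field_simp
  have hpaZ : (0 : ℤ) < (p : ℤ) ^ a := by
    have : 0 < p ^ a := pow_pos hp.pos a
    exact_mod_cast this
  have hBleZ : (B : ℤ) ≤ (p : ℤ) ^ a := by exact_mod_cast hBle
  -- the two squares
  have hminus : classInner (θ - Φ) (θ - Φ) = (((p : ℤ) ^ a - 2 * n + B : ℤ) : ℂ) := by
    rw [ci_sub_left, ci_sub_right, ci_sub_right, hθθ, hn, hn', hB]
    push_cast; ring
  have hplus : classInner (θ + Φ) (θ + Φ) = (((p : ℤ) ^ a + 2 * n + B : ℤ) : ℂ) := by
    rw [ci_add_left, ci_add_right, ci_add_right, hθθ, hn, hn', hB]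
    push_cast; ring
  obtain ⟨hm0, hm1'⟩ := ci_self_int hminus
  obtain ⟨hp0', hp1'⟩ := ci_self_int hplus
  have hθΦ : θ = Φ := by
    rcases le_or_gt 1 n' with h1 | h1
    · have hle : (p : ℤ) ^ a * 1 ≤ (p : ℤ) ^ a * n' := mul_le_mul_of_nonneg_left h1 hpaZ.le
      have : (p : ℤ) ^ a - 2 * n + B = 0 := by
        rw [hn'def]; rw [hn'def] at hm0; linarith
      exact sub_eq_zero.mp (hm1' this)
    · exfalso
      have hne : n' ≠ 0 := by
        rintro rfl
        have h1 : (p : ℤ) ∣ 1 := by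
          have := dvd_neg.mpr hdiv
          simpa using this
        have : (p : ℤ) = 1 ∨ (p : ℤ) = -1 := Int.isUnit_iff.mp (isUnit_of_dvd_one h1)
        have hp1 : (1 : ℤ) < p := by exact_mod_cast hp.one_lt
        omega
      have hle' : n' ≤ -1 := by omega
      have hle : (p : ℤ) ^ a * n' ≤ (p : ℤ) ^ a * (-1) := mul_le_mul_of_nonneg_left hle' hpaZ.le
      have : (p : ℤ) ^ a + 2 * n + B = 0 := by
        rw [hn'def]; rw [hn'def] at hp0'; linarith
      have h0 := hp1' this
      have h2 : classInner (θ + Φ) (fun _ : G => (1 : ℂ)) = 2 := by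
        rw [ci_add_left, hθ1, hΦ1]; norm_num
      rw [h0] at h2
      simp [classInner] at h2
  -- `θ` is a character; its kernel
  rw [← hθΦ] at hΦ
  obtain ⟨K, hKn, hK, -, -⟩ := Cfsg.Agent.Lib.Helper77.exists_kernel hΦ
  refine ⟨K, hKn, ?_⟩
  rw [← hcount]
  apply Nat.card_congr
  apply Equiv.subtypeEquivRight
  intro g
  rw [hK g, hθdef]
  have h1 : ¬ p ∣ orderOf (1 : G) := by
    rw [orderOf_one]; exact hp.one_lt.ne' ∘ Nat.dvd_one.mp
  have hpa : ((p ^ a : ℕ) : ℂ) ≠ 0 := by
    exact_mod_cast (pow_pos hp.pos a).ne'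
  simp only [if_neg h1]
  by_cases hg : p ∣ orderOf g
  · simp only [if_pos hg]
    constructor
    · intro h; exact absurd h.symm hpa
    · intro h; exact absurd hg h
  · simp only [if_neg hg]
    exact ⟨fun _ => hg, fun _ => trivial⟩

end final

end Cfsg.Agent.Lib.Helper41.PIM
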